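import Mathlib

/-!
# TEAM CX (S5242), E1: the central extension with a stable Sylow subgroup

`ρ : S →* G₀` with central kernel and image a Sylow `p`-subgroup `T`; `MonoG` is the group of pairs `(g, f)`,
`f : G₀ / T → S` with `ρ (f x) = (g x).out⁻¹ g x.out`; divide by the `f` with values in `ker ρ` and product `1`.
-/

set_option autoImplicit false
set_option linter.unusedSectionVars false
set_option linter.style.haveILetI false

namespace Cfsg.Agent.H611.CX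

open scoped IsMulCommutative

universe u v

variable {S : Type u} {G₀ : Type v} [Group S] [Group G₀]

/-- the monomial group -/
@[ext]
structure MonoG (ρ : S →* G₀) (T : Subgroup G₀) where
  g : G₀
  f : G₀ ⧸ T → S
  h : ∀ x : G₀ ⧸ T, (g • x).out * ρ (f x) = g * x.out

namespace MonoG

variable {ρ : S →* G₀} {T : Subgroup G₀}

instance : Mul (MonoG ρ T) :=
  ⟨fun a b => ⟨a.g * b.g, fun x => a.f (b.g • x) * b.f x, fun x => by
    rw [map_mul, mul_smul, ← mul_assoc, a.h, mul_assoc, b.h, mul_assoc]⟩⟩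

instance : One (MonoG ρ T) := ⟨⟨1, fun _ => 1, fun x => by rw [one_smul, map_one, mul_one, one_mul]⟩⟩

instance : Inv (MonoG ρ T) :=
  ⟨fun a => ⟨a.g⁻¹, fun x => (a.f (a.g⁻¹ • x))⁻¹, fun x => by
    have h1 := a.h (a.g⁻¹ • x)
    rw [smul_inv_smul] at h1
    rw [map_inv, mul_inv_eq_iff_eq_mul, mul_assoc, h1, inv_mul_cancel_left]⟩⟩

theorem mul_g (a b : MonoG ρ T) : (a * b).g = a.g * b.g := rfl
theorem mul_f (a b : MonoG ρ T) (x : G₀ ⧸ T) : (a * b).f x = a.f (b.g • x) * b.f x := rfl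
theorem one_g : (1 : MonoG ρ T).g = 1 := rfl
theorem one_f (x : G₀ ⧸ T) : (1 : MonoG ρ T).f x = 1 := rfl
theorem inv_g (a : MonoG ρ T) : (a⁻¹).g = a.g⁻¹ := rfl
theorem inv_f (a : MonoG ρ T) (x : G₀ ⧸ T) : (a⁻¹).f x = (a.f (a.g⁻¹ • x))⁻¹ := rfl

instance : Group (MonoG ρ T) :=
  Group.ofLeftAxioms
    (fun a b c => by
      ext x
      · exact mul_assoc _ _ _
      · rw [mul_f, mul_f, mul_f, mul_f, mul_g, mul_smul, mul_assoc])
    (fun a => by
      ext x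
      · exact one_mul _
      · rw [mul_f, one_f, one_mul])
    (fun a => by
      ext x
      · exact inv_mul_cancel _
      · rw [mul_f, inv_f, inv_smul_smul, inv_mul_cancel, one_f])

/-- the projection -/
def pr : MonoG ρ T →* G₀ where
  toFun a := a.g
  map_one' := rfl
  map_mul' _ _ := rfl

theorem pr_apply (a : MonoG ρ T) : pr a = a.g := rfl

theorem pr_surjective (hT : T = ρ.range) : Function.Surjective (pr : MonoG ρ T → G₀) := by
  intro g
  have h : ∀ x : G₀ ⧸ T, ∃ s : S, (g • x).out * ρ s = g * x.out := by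
    intro x
    have h1 : ((g • x).out)⁻¹ * (g * x.out) ∈ T := by
      rw [← QuotientGroup.eq, QuotientGroup.out_eq']
      show g • x = g • ((x.out : G₀) : G₀ ⧸ T)
      rw [QuotientGroup.out_eq']
    have h2 : T ≤ ρ.range := hT.le
    obtain ⟨s, hs⟩ := h2 h1
    refine ⟨s, ?_⟩
    rw [hs, mul_inv_cancel_left]
  choose f hf using h
  exact ⟨⟨g, f, hf⟩, rfl⟩

theorem mem_ker_of_g {a : MonoG ρ T} (ha : a.g = 1) (x : G₀ ⧸ T) : a.f x ∈ ρ.ker := by
  have h := a.h x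
  rw [ha, one_smul, one_mul, mul_eq_left] at h
  exact h

variable [Finite G₀]

/-- the elements `(1, f)` with `∏ f = 1` -/
noncomputable def N₀ (ρ : S →* G₀) (T : Subgroup G₀) : Subgroup (MonoG ρ T) :=
  letI := Fintype.ofFinite (G₀ ⧸ T)
  { carrier := {a | a.g = 1 ∧ ∃ c : G₀ ⧸ T → Subgroup.center S, (∀ x, a.f x = c x) ∧ ∏ x, c x = 1}
    one_mem' := ⟨rfl, fun _ => 1, fun _ => rfl, Finset.prod_const_one⟩
    mul_mem' := by
      rintro a b ⟨ha, c, hc, hc1⟩ ⟨hb, d, hd, hd1⟩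
      refine ⟨by rw [mul_g, ha, hb, one_mul], fun x => c x * d x, fun x => ?_, ?_⟩
      · rw [mul_f, hb, one_smul, hc, hd]
        rfl
      · rw [Finset.prod_mul_distrib, hc1, hd1, one_mul]
    inv_mem' := by
      rintro a ⟨ha, c, hc, hc1⟩
      refine ⟨by rw [inv_g, ha, inv_one], fun x => (c x)⁻¹, fun x => ?_, ?_⟩
      · rw [inv_f, ha, inv_one, one_smul, hc]
        rfl
      · rw [Finset.prod_inv_distrib, hc1, inv_one] }

theorem mem_N₀ [Fintype (G₀ ⧸ T)] {a : MonoG ρ T} : a ∈ N₀ ρ T ↔ a.g = 1 ∧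
    ∃ c : G₀ ⧸ T → Subgroup.center S, (∀ x, a.f x = c x) ∧ ∏ x, c x = 1 := by
  have : Fintype.ofFinite (G₀ ⧸ T) = ‹Fintype (G₀ ⧸ T)› := Subsingleton.elim _ _
  subst this
  exact Iff.rfl

theorem conj_f {k a : MonoG ρ T} (ha : a.g = 1) (c : G₀ ⧸ T → Subgroup.center S)
    (hc : ∀ x, a.f x = c x) (x : G₀ ⧸ T) : (k * a * k⁻¹).f x = c (k.g⁻¹ • x) := by
  rw [mul_f, mul_f, inv_f, inv_g, ha, one_smul, hc]
  have h := Subgroup.mem_center_iff.1 (c (k.g⁻¹ • x)).2 (k.f (k.g⁻¹ • x))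
  rw [h, mul_inv_cancel_right]

instance : (N₀ ρ T).Normal := by
  letI := Fintype.ofFinite (G₀ ⧸ T)
  constructor
  intro a ha k
  obtain ⟨ha, c, hc, hc1⟩ := ha
  refine ⟨by rw [mul_g, mul_g, inv_g, ha, mul_one, mul_inv_cancel], fun x => c (k.g⁻¹ • x),
    conj_f ha c hc, ?_⟩
  rw [← hc1]
  exact Equiv.prod_comp (MulAction.toPerm k.g⁻¹) c

/-- the projection of the quotient -/
noncomputable def π (ρ : S →* G₀) (T : Subgroup G₀) : MonoG ρ T ⧸ N₀ ρ T →* G₀ :=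
  QuotientGroup.lift (N₀ ρ T) pr (fun _ ha => ha.1)

theorem π_mk (a : MonoG ρ T) : π ρ T (QuotientGroup.mk a) = a.g := rfl

theorem π_surjective (hT : T = ρ.range) : Function.Surjective (π ρ T) := by
  intro g
  obtain ⟨a, ha⟩ := pr_surjective hT g
  exact ⟨QuotientGroup.mk a, ha⟩

/-- the values of a kernel element -/
def val (hker : ρ.ker ≤ Subgroup.center S) {a : MonoG ρ T} (ha : a.g = 1) (x : G₀ ⧸ T) :
    Subgroup.center S := ⟨a.f x, hker (mem_ker_of_g ha x)⟩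

theorem ker_le_center (hker : ρ.ker ≤ Subgroup.center S) :
    (π ρ T).ker ≤ Subgroup.center (MonoG ρ T ⧸ N₀ ρ T) := by
  letI := Fintype.ofFinite (G₀ ⧸ T)
  intro q hq
  obtain ⟨a, rfl⟩ := QuotientGroup.mk_surjective q
  have ha : a.g = 1 := hq
  rw [Subgroup.mem_center_iff]
  intro r
  obtain ⟨k, rfl⟩ := QuotientGroup.mk_surjective r
  rw [← QuotientGroup.mk_mul, ← QuotientGroup.mk_mul]
  symm
  rw [QuotientGroup.eq]
  -- `(a k)⁻¹ (k a) = k⁻¹ (a⁻¹ (k a k⁻¹)) k`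
  have h1 : (a * k)⁻¹ * (k * a) = k⁻¹ * (a⁻¹ * (k * a * k⁻¹)) * k⁻¹⁻¹ := by group
  rw [h1]
  apply (inferInstance : (N₀ ρ T).Normal).conj_mem
  have hg : (k * a * k⁻¹).g = 1 := by rw [mul_g, mul_g, inv_g, ha, mul_one, mul_inv_cancel]
  refine ⟨by rw [mul_g, inv_g, ha, hg, inv_one, one_mul],
    fun x => (val hker ha x)⁻¹ * val hker ha (k.g⁻¹ • x), fun x => ?_, ?_⟩
  · rw [mul_f, inv_f, hg, ha, inv_one, one_smul, one_smul, conj_f ha (val hker ha) (fun _ => rfl)]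
    rfl
  · rw [Finset.prod_mul_distrib, Finset.prod_inv_distrib, inv_mul_eq_one]
    exact (Equiv.prod_comp (MulAction.toPerm k.g⁻¹) (val hker ha)).symm

end MonoG

open MonoG

section main

variable {p : ℕ}

/-- total form of the stability maps -/
theorem exists_Φ (ρ : S →* G₀)
    (hst : ∀ g : G₀, ∃ φ : ↥(ρ.range.comap ((MulAut.conj g).toMonoidHom.comp ρ)) →* S,
      (∀ s, ρ (φ s) = g * ρ s * g⁻¹) ∧ ∀ s : ↥(ρ.range.comap ((MulAut.conj g).toMonoidHom.comp ρ)),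
        ρ (s : S) = 1 → φ s = s) (g : G₀) :
    ∃ Φ : S → S, (∀ s, g * ρ s * g⁻¹ ∈ ρ.range → ρ (Φ s) = g * ρ s * g⁻¹) ∧
      (∀ s t, g * ρ s * g⁻¹ ∈ ρ.range → g * ρ t * g⁻¹ ∈ ρ.range → Φ (s * t) = Φ s * Φ t) ∧
      ∀ s, ρ s = 1 → Φ s = s := by
  classical
  obtain ⟨φ, h1, h2⟩ := hst g
  have hmem : ∀ s, g * ρ s * g⁻¹ ∈ ρ.range → s ∈ ρ.range.comap ((MulAut.conj g).toMonoidHom.comp ρ) :=
    fun s hs => hs
  refine ⟨fun s => if h : g * ρ s * g⁻¹ ∈ ρ.range then φ ⟨s, hmem s h⟩ else 1, ?_, ?_, ?_⟩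
  · intro s hs
    simp only [hs, dite_true]
    exact h1 _
  · intro s t hs ht
    have hst' : g * ρ (s * t) * g⁻¹ ∈ ρ.range := by
      have h3 : g * ρ (s * t) * g⁻¹ = (g * ρ s * g⁻¹) * (g * ρ t * g⁻¹) := by
        rw [map_mul]
        group
      rw [h3]
      exact mul_mem hs ht
    simp only [hs, ht, hst', dite_true]
    rw [← map_mul]
    rfl
  · intro s hs
    have h3 : g * ρ s * g⁻¹ ∈ ρ.range := by
      rw [hs, mul_one, mul_inv_cancel]
      exact one_mem _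
    simp only [h3, dite_true]
    exact h2 ⟨s, hmem s h3⟩ hs

/-- the orbit representatives -/
theorem exists_reps (ρ : S →* G₀) (T : Subgroup G₀) (hT : T = ρ.range) :
    ∃ (rep : G₀ ⧸ T → G₀ ⧸ T) (t r : G₀ ⧸ T → S),
      (∀ (s : S) x, rep (ρ s • x) = rep x) ∧
      ∀ x, x.out = ρ (t x) * (rep x).out * ρ (r x) := by
  classical
  letI : MulAction S (G₀ ⧸ T) := MulAction.compHom _ ρ
  have hsm : ∀ (s : S) (x : G₀ ⧸ T), s • x = ρ s • x := fun s x => rfl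
  have h1 : ∀ x : G₀ ⧸ T, ∃ t : S, x = ρ t • (Quotient.out
      (Quotient.mk (MulAction.orbitRel S (G₀ ⧸ T)) x) : G₀ ⧸ T) := by
    intro x
    have h2 := Quotient.mk_out (s := MulAction.orbitRel S (G₀ ⧸ T)) x
    have h3 : (Quotient.out (Quotient.mk (MulAction.orbitRel S (G₀ ⧸ T)) x) : G₀ ⧸ T) ∈
        MulAction.orbit S x := (MulAction.orbitRel_apply).1 h2
    obtain ⟨t, ht⟩ := h3
    refine ⟨t⁻¹, ?_⟩
    rw [← hsm, ← ht]
    exact (inv_smul_smul t x).symm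
  choose t ht using h1
  have h4 : ∀ x : G₀ ⧸ T, ∃ r : S, x.out = ρ (t x) * (Quotient.out
      (Quotient.mk (MulAction.orbitRel S (G₀ ⧸ T)) x) : G₀ ⧸ T).out * ρ r := by
    intro x
    set y : G₀ ⧸ T := Quotient.out (Quotient.mk (MulAction.orbitRel S (G₀ ⧸ T)) x) with hy
    have h5 : (ρ (t x) * y.out)⁻¹ * x.out ∈ T := by
      rw [← QuotientGroup.eq, QuotientGroup.out_eq']
      show ρ (t x) • ((y.out : G₀) : G₀ ⧸ T) = x
      rw [QuotientGroup.out_eq']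
      exact (ht x).symm
    have h6 : T ≤ ρ.range := hT.le
    obtain ⟨r, hr⟩ := h6 h5
    refine ⟨r, ?_⟩
    rw [hr, mul_inv_cancel_left]
  choose r hr using h4
  refine ⟨fun x => Quotient.out (Quotient.mk (MulAction.orbitRel S (G₀ ⧸ T)) x), t, r, ?_, hr⟩
  intro s x
  have h5 : (Quotient.mk (MulAction.orbitRel S (G₀ ⧸ T)) (ρ s • x)) =
      Quotient.mk (MulAction.orbitRel S (G₀ ⧸ T)) x := by
    apply Quotient.sound
    exact (MulAction.orbitRel_apply).2 ⟨s, rfl⟩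
  simp only [h5]

/-- the homomorphism to the monomial group -/
theorem exists_jH (ρ : S →* G₀) (T : Subgroup G₀) (hT : T = ρ.range)
    (hker : ρ.ker ≤ Subgroup.center S)
    (hst : ∀ g : G₀, ∃ φ : ↥(ρ.range.comap ((MulAut.conj g).toMonoidHom.comp ρ)) →* S,
      (∀ s, ρ (φ s) = g * ρ s * g⁻¹) ∧ ∀ s : ↥(ρ.range.comap ((MulAut.conj g).toMonoidHom.comp ρ)),
        ρ (s : S) = 1 → φ s = s) :
    ∃ j : S →* MonoG ρ T, (∀ s, (j s).g = ρ s) ∧ ∀ s, ρ s = 1 → ∀ x, (j s).f x = s := by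
  classical
  obtain ⟨rep, t, r, hrep, hout⟩ := exists_reps ρ T hT
  choose Φ hΦ1 hΦ2 hΦ3 using exists_Φ ρ hst
  let F : S → G₀ ⧸ T → S := fun s x =>
    (r (ρ s • x))⁻¹ * Φ ((rep x).out)⁻¹ ((t (ρ s • x))⁻¹ * s * t x) * r x
  have key : ∀ (s : S) (x : G₀ ⧸ T), ((rep x).out)⁻¹ * ρ ((t (ρ s • x))⁻¹ * s * t x) *
      (((rep x).out)⁻¹)⁻¹ = ρ (r (ρ s • x)) * ((ρ s • x).out⁻¹ * (ρ s * x.out)) * (ρ (r x))⁻¹ := by
    intro s x
    have h1 := hout (ρ s • x)
    rw [hrep] at h1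
    rw [h1, hout x, map_mul, map_mul, map_inv]
    group
  have hmem : ∀ (s : S) (x : G₀ ⧸ T), ((rep x).out)⁻¹ * ρ ((t (ρ s • x))⁻¹ * s * t x) *
      (((rep x).out)⁻¹)⁻¹ ∈ ρ.range := by
    intro s x
    rw [key]
    have h1 : (ρ s • x).out⁻¹ * (ρ s * x.out) ∈ T := by
      rw [← QuotientGroup.eq, QuotientGroup.out_eq']
      show ρ s • x = ρ s • ((x.out : G₀) : G₀ ⧸ T)
      rw [QuotientGroup.out_eq']
    have h2 : T ≤ ρ.range := hT.le
    exact mul_mem (mul_mem ⟨_, rfl⟩ (h2 h1)) (inv_mem ⟨_, rfl⟩)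
  have hF : ∀ (s : S) (x : G₀ ⧸ T), (ρ s • x).out * ρ (F s x) = ρ s * x.out := by
    intro s x
    show (ρ s • x).out * ρ ((r (ρ s • x))⁻¹ * Φ ((rep x).out)⁻¹ ((t (ρ s • x))⁻¹ * s * t x) * r x) = _
    rw [map_mul, map_mul, map_inv, hΦ1 _ _ (hmem s x), key]
    group
  refine ⟨MonoidHom.mk' (fun s => ⟨ρ s, F s, hF s⟩) ?_, fun s => rfl, ?_⟩
  · intro s s'
    apply MonoG.ext
    · exact map_mul ρ s s'
    · funext x
      show F (s * s') x = F s (ρ s' • x) * F s' x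
      have h1 : ρ (s * s') • x = ρ s • ρ s' • x := by rw [map_mul, mul_smul]
      show (r (ρ (s * s') • x))⁻¹ * Φ ((rep x).out)⁻¹ ((t (ρ (s * s') • x))⁻¹ * (s * s') * t x) * r x =
        ((r (ρ s • ρ s' • x))⁻¹ * Φ ((rep (ρ s' • x)).out)⁻¹
          ((t (ρ s • ρ s' • x))⁻¹ * s * t (ρ s' • x)) * r (ρ s' • x)) *
        ((r (ρ s' • x))⁻¹ * Φ ((rep x).out)⁻¹ ((t (ρ s' • x))⁻¹ * s' * t x) * r x)
      rw [h1]
      have h2 : (t (ρ s • ρ s' • x))⁻¹ * (s * s') * t x =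
          ((t (ρ s • ρ s' • x))⁻¹ * s * t (ρ s' • x)) * ((t (ρ s' • x))⁻¹ * s' * t x) := by group
      have h3 := hmem s (ρ s' • x)
      rw [hrep] at h3
      rw [h2, hΦ2 _ _ _ h3 (hmem s' x), hrep]
      group
  · intro s hs x
    show (r (ρ s • x))⁻¹ * Φ ((rep x).out)⁻¹ ((t (ρ s • x))⁻¹ * s * t x) * r x = s
    have hc : ∀ y : S, y⁻¹ * s * y = s := by
      intro y
      have h1 := Subgroup.mem_center_iff.1 (hker (MonoidHom.mem_ker.2 hs)) y
      rw [mul_assoc, ← h1, inv_mul_cancel_left]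
    rw [hs, one_smul, hc, hΦ3 _ _ hs, hc]

/-- **E1: the central extension with stable class.** -/
theorem thmG {S : Type u} {G₀ : Type v} [Group S] [Finite S] [Group G₀] [Finite G₀] (p : ℕ) [Fact p.Prime]
    (hS : IsPGroup p S) (ρ : S →* G₀) (hker : ρ.ker ≤ Subgroup.center S) (T : Sylow p G₀)
    (hT : (T : Subgroup G₀) = ρ.range)
    (hst : ∀ g : G₀, ∃ φ : ↥(ρ.range.comap ((MulAut.conj g).toMonoidHom.comp ρ)) →* S,
      (∀ s, ρ (φ s) = g * ρ s * g⁻¹) ∧ ∀ s : ↥(ρ.range.comap ((MulAut.conj g).toMonoidHom.comp ρ)),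
        ρ (s : S) = 1 → φ s = s) :
    ∃ (G : Type (max u v)) (_ : Group G) (_ : Finite G) (π : G →* G₀) (j : S →* G), Function.Surjective π ∧
      π.ker ≤ Subgroup.center G ∧ Function.Injective j ∧ (∀ s, π (j s) = ρ s) ∧
      ∀ g ∈ π.ker, ∃ s, ρ s = 1 ∧ j s = g := by
  classical
  obtain ⟨j, hj1, hj2⟩ := exists_jH ρ (T : Subgroup G₀) hT hker hst
  letI := Fintype.ofFinite (G₀ ⧸ (T : Subgroup G₀))
  haveI : Finite (MonoG ρ (T : Subgroup G₀)) := by
    refine Finite.of_injective (fun a => (a.g, a.f) : MonoG ρ (T : Subgroup G₀) →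
      G₀ × (G₀ ⧸ (T : Subgroup G₀) → S)) ?_
    intro a b hab
    exact MonoG.ext (congrArg Prod.fst hab) (congrArg Prod.snd hab)
  have hcop : ∀ s : S, (Fintype.card (G₀ ⧸ (T : Subgroup G₀))).Coprime (orderOf s) := by
    intro s
    obtain ⟨k, hk⟩ := IsPGroup.iff_orderOf.1 hS s
    rw [hk, ← Nat.card_eq_fintype_card]
    apply Nat.Coprime.pow_right
    rw [Nat.coprime_comm, Nat.Prime.coprime_iff_not_dvd Fact.out]
    exact T.not_dvd_index
  refine ⟨MonoG ρ (T : Subgroup G₀) ⧸ N₀ ρ (T : Subgroup G₀), inferInstance, inferInstance,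
    MonoG.π ρ (T : Subgroup G₀), (QuotientGroup.mk' (N₀ ρ (T : Subgroup G₀))).comp j,
    π_surjective hT, ker_le_center hker, ?_, fun s => hj1 s, ?_⟩
  · rw [injective_iff_map_eq_one]
    intro s hs
    have h1 : j s ∈ N₀ ρ (T : Subgroup G₀) := (QuotientGroup.eq_one_iff _).1 hs
    obtain ⟨h2, c, hc, hc1⟩ := mem_N₀.1 h1
    have h3 : ρ s = 1 := by rw [← hj1, h2]
    have h4 : ∀ x, (c x : S) = s := fun x => by rw [← hc, hj2 s h3]
    have h5 : s ^ Fintype.card (G₀ ⧸ (T : Subgroup G₀)) = 1 := by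
      have h6 : c = fun _ => c (QuotientGroup.mk 1) := by
        funext x
        exact Subtype.ext ((h4 x).trans (h4 _).symm)
      rw [h6, Finset.prod_const, Finset.card_univ] at hc1
      have h7 := congrArg Subtype.val hc1
      rw [Subgroup.coe_pow, h4] at h7
      exact h7
    have h6 : orderOf s ∣ Fintype.card (G₀ ⧸ (T : Subgroup G₀)) := orderOf_dvd_of_pow_eq_one h5
    exact orderOf_eq_one_iff.1 (Nat.eq_one_of_dvd_coprimes (hcop s) h6 dvd_rfl)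
  · intro q hq
    obtain ⟨a, rfl⟩ := QuotientGroup.mk_surjective q
    have ha : a.g = 1 := hq
    set b : Subgroup.center S := ∏ x, val hker ha x with hb
    have hbk : (b : S) ∈ ρ.ker := by
      have h1 : b ∈ ρ.ker.subgroupOf (Subgroup.center S) := by
        rw [hb]
        refine Subgroup.prod_mem _ fun x _ => ?_
        rw [Subgroup.mem_subgroupOf]
        exact mem_ker_of_g ha x
      exact h1
    obtain ⟨m, hm⟩ := exists_pow_eq_self_of_coprime (hcop (b : S))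
    refine ⟨(b : S) ^ m, MonoidHom.mem_ker.1 (pow_mem hbk m), ?_⟩
    show (QuotientGroup.mk (j ((b : S) ^ m)) : MonoG ρ (T : Subgroup G₀) ⧸ N₀ ρ (T : Subgroup G₀)) = _
    rw [QuotientGroup.eq]
    have hbm : ρ ((b : S) ^ m) = 1 := MonoidHom.mem_ker.1 (pow_mem hbk m)
    have hg : (j ((b : S) ^ m)).g = 1 := by rw [hj1, hbm]
    refine mem_N₀.2 ⟨by rw [mul_g, inv_g, ha, hg, inv_one, one_mul],
      fun x => (b ^ m)⁻¹ * val hker ha x, fun x => ?_, ?_⟩
    · rw [mul_f, inv_f, hg, ha, inv_one, one_smul, one_smul, hj2 _ hbm]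
      rfl
    · rw [Finset.prod_mul_distrib, Finset.prod_const, Finset.card_univ, ← hb]
      have h1 : ((b ^ m)⁻¹ ^ Fintype.card (G₀ ⧸ (T : Subgroup G₀)) * b : Subgroup.center S) = 1 := by
        rw [inv_pow, inv_mul_eq_one]
        apply Subtype.ext
        rw [← pow_mul, mul_comm, pow_mul]
        exact hm
      exact h1

end main

end Cfsg.Agent.H611.CX
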